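import Groth.Agent.IntClFF.Main
import Groth.Agent.CplQuot.Scheme
import Groth.Agent.NormCurve.Delta
import Groth.Agent.CompleteNagata.Complete
import Groth.Agent.CAlgOdd.NagataFT.Poly
import Groth.Agent.NagataLib.Field
import Groth.Agent.FlatLoc6.Cpl
import Mathlib.AlgebraicGeometry.Morphisms.FiniteType

/-!
# Normalization is finite when the completion base change is normal off the closed fibre
-/

set_option autoImplicit false
set_option backward.isDefEq.respectTransparency false
set_option backward.isDefEq.respectTransparency.types false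
set_option linter.style.haveILetI false
set_option maxHeartbeats 1000000

open CategoryTheory CategoryTheory.Limits AlgebraicGeometry TopologicalSpace

namespace Groth.Agent.IntClFF

universe u

variable (X : Scheme.{u}) [IsIntegral X]
  [QuasiCompact (X.fromSpecStalk (genericPoint X))] [QuasiSeparated (X.fromSpecStalk (genericPoint X))]

/-- The normalization is finite if affine integral closures are. -/
theorem isFinite_normalizationι (hfin : ∀ (U : X.Opens) (_ : IsAffineOpen U) (_ : Nonempty U),
      Module.Finite Γ(X, U) (integralClosure Γ(X, U) (FractionRing Γ(X, U)))) :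
    IsFinite (Curv2.normalizationι X) := by
  haveI : IsAffineHom (Curv2.normalizationι X) :=
    inferInstanceAs (IsAffineHom (X.fromSpecStalk (genericPoint X)).fromNormalization)
  refine ⟨fun U hU => ?_⟩
  rcases (U : Set X).eq_empty_or_nonempty with he | hne
  · have e : U = ⊥ := Opens.ext he
    subst e
    haveI : Subsingleton Γ(Curv2.normalization X, Curv2.normalizationι X ⁻¹ᵁ ⊥) := by
      rw [Scheme.Hom.preimage_bot]; infer_instance
    exact RingHom.Finite.of_surjective _ fun z => ⟨0, Subsingleton.elim _ _⟩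
  haveI : Nonempty (U : X.Opens) := hne.to_subtype
  let L := FractionRing Γ(X, U)
  obtain ⟨e, he⟩ := NormCurve.exists_normalizationEquiv X hU hne L
  haveI := hfin U hU inferInstance
  have h1 : (algebraMap Γ(X, U) (integralClosure Γ(X, U) L)).Finite := RingHom.finite_algebraMap.2 inferInstance
  have h2 : ((Curv2.normalizationι X).app U).hom =
      e.symm.toRingHom.comp (algebraMap Γ(X, U) (integralClosure Γ(X, U) L)) :=
    RingHom.ext fun a => by
      show _ = e.symm _
      rw [← he, e.symm_apply_apply]
  show ((Curv2.normalizationι X).app U).hom.Finite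
  rw [h2]
  exact (RingHom.Finite.of_surjective _ e.symm.surjective).comp h1

omit [IsIntegral X] [QuasiCompact (X.fromSpecStalk (genericPoint X))]
  [QuasiSeparated (X.fromSpecStalk (genericPoint X))] in
theorem notMem_basicOpen (A : CommRingCat.{u}) (f : X ⟶ Spec A) {U : X.Opens} {x : X}
    (a : A) (ha : f x ∉ PrimeSpectrum.basicOpen a) :
    x ∉ X.basicOpen (f.appLE ⊤ U le_top ((Scheme.ΓSpecIso A).inv a)) := by
  intro h1
  rw [Scheme.basicOpen_appLE] at h1
  have h2 : f x ∈ (Spec A).basicOpen ((Scheme.ΓSpecIso A).inv a) := h1.2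
  rw [basicOpen_eq_of_affine] at h2
  exact ha h2

omit [QuasiCompact (X.fromSpecStalk (genericPoint X))] [QuasiSeparated (X.fromSpecStalk (genericPoint X))] in
/-- Finite integral closure when the completion base change is reduced off a nonzero function. -/
theorem finite_integralClosure_of_reduced_off (A : Type u) [CommRing A] [IsLocalRing A] [IsNoetherianRing A]
    (f : X ⟶ Spec (CommRingCat.of A)) [LocallyOfFiniteType f]
    (U : X.Opens) (hU : IsAffineOpen U) [Nonempty U] (b : Γ(X, U)) (hb : b ≠ 0)
    (hred : ∀ y : ↥(Curv2.bcCpl A f),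
      y ∈ (Curv2.bcCpl A f).basicOpen ((Curv2.bcCplFst A f).app U b) →
      _root_.IsReduced ((Curv2.bcCpl A f).presheaf.stalk y)) :
    Module.Finite Γ(X, U) (integralClosure Γ(X, U) (FractionRing Γ(X, U))) := by
  let B := Γ(X, U)
  let ψ : CommRingCat.of A ⟶ B := (Scheme.ΓSpecIso (CommRingCat.of A)).inv ≫ f.appLE ⊤ U le_top
  letI : Algebra A B := ψ.hom.toAlgebra
  haveI : Algebra.FiniteType A B := by
    rw [← RingHom.finiteType_algebraMap, RingHom.algebraMap_toAlgebra]
    exact (LocallyOfFiniteType.finiteType_appLE f (isAffineOpen_top _) hU _).comp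
      (RingHom.FiniteType.of_surjective _
        (Scheme.ΓSpecIso (CommRingCat.of A)).symm.commRingCatIsoToRingEquiv.surjective)
  let c : CommRingCat.of A ⟶ CommRingCat.of (Curv2.cpl A) := CommRingCat.ofHom (algebraMap A (Curv2.cpl A))
  let Y := Curv2.bcCpl A f
  let g : Y ⟶ X := Curv2.bcCplFst A f
  haveI : IsAffineHom g := MorphismProperty.pullback_fst f (Spec.map c) inferInstance
  have hU' : IsAffineOpen (g ⁻¹ᵁ U) := hU.preimage g
  let P := Γ(Y, g ⁻¹ᵁ U)
  let χ : CommRingCat.of (Curv2.cpl A) ⟶ P :=
    (Scheme.ΓSpecIso (CommRingCat.of (Curv2.cpl A))).inv ≫ (Curv2.bcCplSnd A f).appLE ⊤ (g ⁻¹ᵁ U) le_top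
  have hpo : IsPushout ψ c (g.app U) χ := CplQuot.isPushout_sections f c hU
  letI : Algebra B P := (g.app U).hom.toAlgebra
  letI : Algebra (Curv2.cpl A) P := χ.hom.toAlgebra
  letI : Algebra A P := (ψ ≫ g.app U).hom.toAlgebra
  haveI : IsScalarTower A B P := IsScalarTower.of_algebraMap_eq' rfl
  haveI : IsScalarTower A (Curv2.cpl A) P := IsScalarTower.of_algebraMap_eq' (congrArg CommRingCat.Hom.hom hpo.w)
  haveI hP : Algebra.IsPushout A B (Curv2.cpl A) P :=
    CommRingCat.isPushout_iff_isPushout.1 (show IsPushout (CommRingCat.ofHom (algebraMap A B))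
      (CommRingCat.ofHom (algebraMap A (Curv2.cpl A))) (CommRingCat.ofHom (algebraMap B P))
      (CommRingCat.ofHom (algebraMap (Curv2.cpl A) P)) from hpo)
  haveI : Algebra.IsPushout A (Curv2.cpl A) B P := hP.symm
  haveI := FlatLoc6.faithfullyFlat_cpl A
  haveI := FlatLoc6.isNoetherianRing_cpl A
  haveI : Module.FaithfullyFlat B P :=
    Module.FaithfullyFlat.of_linearEquiv _ _ (Algebra.IsPushout.equiv A B (Curv2.cpl A) P).symm.toLinearEquiv
  haveI : Algebra.FiniteType (Curv2.cpl A) P :=
    Algebra.FiniteType.equiv inferInstance (Algebra.IsPushout.equiv A (Curv2.cpl A) B P)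
  haveI : IsAdicComplete (IsLocalRing.maximalIdeal (Curv2.cpl A)) (Curv2.cpl A) := by
    rw [AdicCompletion.maximalIdeal_eq_map_of_fg (IsNoetherian.noetherian (IsLocalRing.maximalIdeal A))]
    exact AdicCompletion.isAdicComplete_self _ (IsNoetherian.noetherian _)
  have hN : CAlg.IsNagata P :=
    CAlgOdd.NagataFT.isNagata_of_finiteType (CompleteNagata.isNagata_of_complete (Curv2.cpl A)) P
  haveI : _root_.IsReduced P := by
    constructor
    intro x hx
    let φb : P := algebraMap B P b
    have hinj : ∀ z : P, φb * z = 0 → z = 0 := fun z hz => by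
      let e := TensorProduct.rid B P
      have h2 := Module.Flat.lTensor_preserves_injective_linearMap (M := P) (LinearMap.mulLeft B b)
        (fun s t h => mul_left_cancel₀ hb h)
      have h3 : e ((LinearMap.mulLeft B b).lTensor P (e.symm z)) = φb * z := by
        simp [e, φb, Algebra.smul_def]
      rw [hz, e.map_eq_zero_iff] at h3
      exact e.symm.map_eq_zero_iff.1 (h2 (h3.trans (map_zero _).symm))
    have hrad : φb ∈ (Submodule.colon (⊥ : Ideal P) {x}).radical := by
      rw [Ideal.radical_eq_sInf, Submodule.mem_sInf]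
      rintro Q ⟨hQ, hQp⟩
      by_contra hφ
      let yp : PrimeSpectrum P := ⟨Q, hQp⟩
      let y : Y := hU'.fromSpec yp
      have hy : y ∈ g ⁻¹ᵁ U := by
        have : y ∈ Set.range hU'.fromSpec := ⟨yp, rfl⟩
        rwa [hU'.range_fromSpec] at this
      letI := TopCat.Presheaf.algebra_section_stalk Y.presheaf (⟨y, hy⟩ : ((g ⁻¹ᵁ U : Y.Opens) : Set Y))
      haveI : IsLocalization.AtPrime (Y.presheaf.stalk y) Q := hU'.isLocalization_stalk' yp hy
      haveI := hred y ((Y.mem_basicOpen _ _ hy).2
        (IsLocalization.map_units (Y.presheaf.stalk y) (⟨φb, hφ⟩ : yp.asIdeal.primeCompl)))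
      have hx0 : algebraMap P (Y.presheaf.stalk y) x = 0 := (hx.map _).eq_zero
      obtain ⟨t, ht⟩ := (IsLocalization.map_eq_zero_iff yp.asIdeal.primeCompl _ x).1 hx0
      exact t.2 (hQ (Submodule.mem_colon_singleton.2 ((Submodule.mem_bot P).2 ht)))
    obtain ⟨N, hN'⟩ := hrad
    rw [Submodule.mem_colon_singleton, Submodule.mem_bot, smul_eq_mul] at hN'
    induction N with
    | zero => simpa using hN'
    | succ N ih =>
      refine ih (hinj _ ?_)
      rw [← mul_assoc, ← pow_succ']; exact hN'
  exact finite_integralClosure B P (FractionRing B) hN (nonZeroDivisors B) le_rfl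


omit [QuasiCompact (X.fromSpecStalk (genericPoint X))] [QuasiSeparated (X.fromSpecStalk (genericPoint X))] in
theorem finite_integralClosure_of_completion (A : Type u) [CommRing A] [IsLocalRing A] [IsNoetherianRing A]
    (f : X ⟶ Spec (CommRingCat.of A)) [LocallyOfFiniteType f]
    (hY : ∀ y : ↥(Curv2.bcCpl A f), (Curv2.bcCplSnd A f).base y ≠ IsLocalRing.closedPoint (Curv2.cpl A) →
      IsDomain ((Curv2.bcCpl A f).presheaf.stalk y) ∧ IsIntegrallyClosed ((Curv2.bcCpl A f).presheaf.stalk y))
    (U : X.Opens) (hU : IsAffineOpen U) [Nonempty U] :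
    Module.Finite Γ(X, U) (integralClosure Γ(X, U) (FractionRing Γ(X, U))) := by
  let B := Γ(X, U)
  let ψ : CommRingCat.of A ⟶ B := (Scheme.ΓSpecIso (CommRingCat.of A)).inv ≫ f.appLE ⊤ U le_top
  letI : Algebra A B := ψ.hom.toAlgebra
  haveI : Algebra.FiniteType A B := by
    rw [← RingHom.finiteType_algebraMap, RingHom.algebraMap_toAlgebra]
    exact (LocallyOfFiniteType.finiteType_appLE f (isAffineOpen_top _) hU _).comp
      (RingHom.FiniteType.of_surjective _
        (Scheme.ΓSpecIso (CommRingCat.of A)).symm.commRingCatIsoToRingEquiv.surjective)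
  by_cases hmB : ∀ a ∈ IsLocalRing.maximalIdeal A, ψ a = 0
  · let κ := IsLocalRing.ResidueField A
    letI : Algebra κ B := (Ideal.Quotient.lift _ ψ.hom hmB).toAlgebra
    haveI : IsScalarTower A κ B := IsScalarTower.of_algebraMap_eq fun _ => rfl
    haveI : Algebra.FiniteType κ B := Algebra.FiniteType.of_restrictScalars_finiteType A κ B
    exact NormCurve.finite_integralClosure_of_nagata (NagataLib.isNagata_of_finiteType κ B) _
  push Not at hmB
  obtain ⟨a, ha, hab⟩ := hmB
  refine finite_integralClosure_of_reduced_off X A f U hU (ψ a) hab fun y hy => ?_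
  have hsnd : (Curv2.bcCplSnd A f).base y ≠ IsLocalRing.closedPoint (Curv2.cpl A) := by
    intro hc
    have hy' : (Curv2.bcCplFst A f) y ∈ X.basicOpen (ψ a) := by
      rw [← Scheme.Hom.preimage_basicOpen] at hy; exact hy
    refine notMem_basicOpen X (CommRingCat.of A) f a ?_ hy'
    have h := congrArg (fun φ : Curv2.bcCpl A f ⟶ Spec (CommRingCat.of A) => φ y)
      (pullback.condition (f := f) (g := Spec.map (CommRingCat.ofHom (algebraMap A (Curv2.cpl A)))))
    rw [show f ((Curv2.bcCplFst A f) y) = Spec.map (CommRingCat.ofHom (algebraMap A (Curv2.cpl A)))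
      ((Curv2.bcCplSnd A f).base y) from h, hc]
    rw [show Spec.map (CommRingCat.ofHom (algebraMap A (Curv2.cpl A))) (IsLocalRing.closedPoint (Curv2.cpl A)) =
      IsLocalRing.closedPoint A from IsLocalRing.comap_closedPoint (algebraMap A (Curv2.cpl A))]
    exact fun h => h ha
  haveI := (hY y hsnd).1
  infer_instance

end Groth.Agent.IntClFF
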