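import Groth.Prelude.Def_Found
import Mathlib.RingTheory.Finiteness.Descent
import Mathlib.RingTheory.Localization.BaseChange

/-!
# Finite integral closure by descent from a reduced Nagata ring
-/

set_option autoImplicit false
set_option linter.style.haveILetI false

namespace Groth.Agent.IntClFF

universe u

open TensorProduct

/-- Integral closures in fraction fields of domain quotients of Nagata rings are finite. -/
theorem finite_quotient (S : Type u) [CommRing S] (hS : CAlg.IsNagata S) (P : Ideal S) [P.IsPrime] :
    Module.Finite S (integralClosure S (FractionRing (S ⧸ P))) := by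
  let E := FractionRing (S ⧸ P)
  haveI : Module.Finite (S ⧸ P) (integralClosure (S ⧸ P) E) := hS.2 P E inferInstance
  haveI : Module.Finite S (integralClosure (S ⧸ P) E) := Module.Finite.trans (S ⧸ P) _
  haveI : IsNoetherianRing S := hS.1
  let i : integralClosure S E →ₗ[S] integralClosure (S ⧸ P) E :=
    { toFun := fun z => ⟨z.1, IsIntegral.tower_top z.2⟩
      map_add' := fun _ _ => rfl
      map_smul' := fun _ _ => rfl }
  exact Module.Finite.of_injective i fun a b h => Subtype.ext (congrArg (fun z : integralClosure (S ⧸ P) E => (z : E)) h)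

/-- Integral closures in localizations of reduced Nagata rings are finite. -/
theorem finite_localization (S Z : Type u) [CommRing S] [IsReduced S] [CommRing Z] [Algebra S Z]
    (hS : CAlg.IsNagata S) (N : Submonoid S) (hN : N ≤ nonZeroDivisors S) [IsLocalization N Z] :
    Module.Finite S (integralClosure S Z) := by
  classical
  haveI : IsNoetherianRing S := hS.1
  haveI : Finite (minimalPrimes S) := (minimalPrimes.finite_of_isNoetherianRing S).to_subtype
  haveI : ∀ P : minimalPrimes S, (P.1).IsPrime := fun P => P.2.1.1
  let σ : ∀ P : minimalPrimes S, S →ₐ[S] FractionRing (S ⧸ P.1) := fun P =>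
    Algebra.ofId S _
  have hunit : ∀ (P : minimalPrimes S) (s : N), IsUnit (σ P s) := fun P s => by
    refine isUnit_iff_ne_zero.mpr fun h => ?_
    have h1 : Ideal.Quotient.mk P.1 (s : S) = 0 :=
      IsFractionRing.injective (S ⧸ P.1) (FractionRing (S ⧸ P.1)) (h.trans (map_zero _).symm)
    exact Set.disjoint_left.mp (Ideal.disjoint_nonZeroDivisors_of_mem_minimalPrimes P.2)
      (Ideal.Quotient.eq_zero_iff_mem.mp h1) (hN s.2)
  let Φ : ∀ P : minimalPrimes S, Z →ₐ[S] FractionRing (S ⧸ P.1) := fun P =>
    IsLocalization.liftAlgHom (M := N) (hunit P)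
  have hΦ : ∀ z : Z, (∀ P, Φ P z = 0) → z = 0 := fun z hz => by
    obtain ⟨w, s, rfl⟩ := IsLocalization.exists_mk'_eq N z
    have hw : w = 0 := by
      refine IsReduced.eq_zero _ ((mem_nilradical.mp ?_) : IsNilpotent w)
      rw [nilradical, Ideal.zero_eq_bot, ← Ideal.sInf_minimalPrimes, Ideal.mem_sInf]
      intro P hP
      have h2 : σ ⟨P, hP⟩ w = 0 := by
        have h3 := congrArg (Φ ⟨P, hP⟩) (IsLocalization.mk'_spec Z w s)
        rw [map_mul, hz ⟨P, hP⟩, zero_mul] at h3
        exact ((IsLocalization.lift_eq (M := N) (hunit ⟨P, hP⟩) w).symm.trans h3.symm)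
      exact Ideal.Quotient.eq_zero_iff_mem.mp
        (IsFractionRing.injective (S ⧸ P) (FractionRing (S ⧸ P)) (h2.trans (map_zero _).symm))
    rw [hw, IsLocalization.mk'_zero]
  haveI : ∀ P : minimalPrimes S, Module.Finite S (integralClosure S (FractionRing (S ⧸ P.1))) := fun P =>
    finite_quotient S hS P.1
  let k : integralClosure S Z →ₗ[S] ((P : minimalPrimes S) → integralClosure S (FractionRing (S ⧸ P.1))) :=
    LinearMap.pi fun P => (((Φ P).comp (integralClosure S Z).val).codRestrict
      (integralClosure S (FractionRing (S ⧸ P.1))) fun z => (z.2 : IsIntegral S (z : Z)).map (Φ P)).toLinearMap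
  exact Module.Finite.of_injective k fun a b h => Subtype.ext (sub_eq_zero.mp (hΦ _ fun P => by
    rw [map_sub, sub_eq_zero]
    exact congrArg Subtype.val (congrFun h P)))

/-- Descent of finiteness of the integral closure. -/
theorem finite_integralClosure (B B' F : Type u) [CommRing B] [CommRing B'] [CommRing F] [Algebra B B']
    [Algebra B F] [Module.FaithfullyFlat B B'] [IsReduced B'] (hB' : CAlg.IsNagata B')
    (M : Submonoid B) [IsLocalization M F] (hM : M ≤ nonZeroDivisors B) :
    Module.Finite B (integralClosure B F) := by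
  haveI : IsLocalization (Algebra.algebraMapSubmonoid B' M) (B' ⊗[B] F) := IsLocalization.tensor F M
  have hN : Algebra.algebraMapSubmonoid B' M ≤ nonZeroDivisors B' := by
    rintro _ ⟨s, hs, rfl⟩
    have hinj : Function.Injective (LinearMap.mulLeft B s) := fun a b h => by
      refine sub_eq_zero.mp ((mem_nonZeroDivisors_iff_left.mp (hM hs)) _ ?_)
      rw [mul_sub, sub_eq_zero]; exact h
    have h2 := Module.Flat.lTensor_preserves_injective_linearMap (M := B') (LinearMap.mulLeft B s) hinj
    rw [mem_nonZeroDivisors_iff_left]
    intro z hz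
    let e := TensorProduct.rid B B'
    have h3 : e ((LinearMap.mulLeft B s).lTensor B' (e.symm z)) = algebraMap B B' s * z := by
      simp [e, Algebra.smul_def]
    rw [hz, e.map_eq_zero_iff] at h3
    exact e.symm.map_eq_zero_iff.1 (h2 (h3.trans (map_zero _).symm))
  haveI := finite_localization B' (B' ⊗[B] F) hB' (Algebra.algebraMapSubmonoid B' M) hN
  haveI : IsNoetherianRing B' := hB'.1
  let C := integralClosure B F
  let j : B' ⊗[B] C →ₐ[B'] B' ⊗[B] F := Algebra.TensorProduct.map (AlgHom.id B' B') C.val
  have hj : Function.Injective j :=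
    Module.Flat.lTensor_preserves_injective_linearMap (M := B') C.val.toLinearMap Subtype.val_injective
  have hint : ∀ z, j z ∈ integralClosure B' (B' ⊗[B] F) := fun z => by
    induction z using TensorProduct.induction_on with
    | zero => rw [map_zero]; exact zero_mem _
    | tmul a c =>
      rw [show j (a ⊗ₜ[B] c) = algebraMap B' (B' ⊗[B] F) a * ((1 : B') ⊗ₜ[B] (c : F)) by
        simp [j, Algebra.TensorProduct.algebraMap_apply]]
      refine mul_mem (Subalgebra.algebraMap_mem _ a) ?_
      exact IsIntegral.tower_top (R := B) (A := B')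
        ((c.2 : IsIntegral B (c : F)).map (Algebra.TensorProduct.includeRight (R := B) (A := B') (B := F)))
    | add u v hu hv => rw [map_add]; exact add_mem hu hv
  haveI := isNoetherian_of_isNoetherianRing_of_finite B' (integralClosure B' (B' ⊗[B] F))
  haveI : Module.Finite B' (B' ⊗[B] C) :=
    Module.Finite.of_injective (j.codRestrict (integralClosure B' (B' ⊗[B] F)) hint).toLinearMap fun a b h =>
      hj (congrArg Subtype.val h)
  exact Module.Finite.of_finite_tensorProduct_of_faithfullyFlat B'

end Groth.Agent.IntClFF
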